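import Cfsg.Agent.Lib.Helper19.Fi23a.DataB

/-! Generated file: Todd–Coxeter certificate data and checks. -/

set_option autoImplicit false
set_option maxRecDepth 1000000

namespace Cfsg.Agent.Lib.Helper19.Fi23a

open Cfsg.Agent.Lib.Helper19.TCS (evn evn_rot evn_rev evn_pair AllS forall_of_allS lift_rels mk_eq_lift cox_swap shapeI prod_rep index_of_equiv orbit_ncard orbit_image ncard_interval fix_of_closure RC)
open Cfsg.Agent.Lib.Helper19.TC2

theorem inv_0 : loop (fun i => and (Nat.blt (f0 i) 31671) (Nat.beq (f0 (f0 i)) i)) 0 31671 = true := by decide +kernel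

theorem inv_1 : loop (fun i => and (Nat.blt (f1 i) 31671) (Nat.beq (f1 (f1 i)) i)) 0 31671 = true := by decide +kernel

theorem inv_2 : loop (fun i => and (Nat.blt (f2 i) 31671) (Nat.beq (f2 (f2 i)) i)) 0 31671 = true := by decide +kernel

theorem inv_3 : loop (fun i => and (Nat.blt (f3 i) 31671) (Nat.beq (f3 (f3 i)) i)) 0 31671 = true := by decide +kernel

theorem inv_4 : loop (fun i => and (Nat.blt (f4 i) 31671) (Nat.beq (f4 (f4 i)) i)) 0 31671 = true := by decide +kernel

theorem inv_5 : loop (fun i => and (Nat.blt (f5 i) 31671) (Nat.beq (f5 (f5 i)) i)) 0 31671 = true := by decide +kernel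

theorem inv_6 : loop (fun i => and (Nat.blt (f6 i) 31671) (Nat.beq (f6 (f6 i)) i)) 0 31671 = true := by decide +kernel

theorem inv_7 : loop (fun i => and (Nat.blt (f7 i) 31671) (Nat.beq (f7 (f7 i)) i)) 0 31671 = true := by decide +kernel

theorem inv_8 : loop (fun i => and (Nat.blt (f8 i) 31671) (Nat.beq (f8 (f8 i)) i)) 0 31671 = true := by decide +kernel

theorem inv_9 : loop (fun i => and (Nat.blt (f9 i) 31671) (Nat.beq (f9 (f9 i)) i)) 0 31671 = true := by decide +kernel

theorem cx_0_1_0 : loop (fun i => Nat.beq (E_0_1 i) i) 0 31671 = true := by decide +kernel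

theorem cx_0_2_0 : loop (fun i => Nat.beq (E_0_2 i) i) 0 31671 = true := by decide +kernel

theorem cx_0_3_0 : loop (fun i => Nat.beq (E_0_3 i) i) 0 31671 = true := by decide +kernel

theorem cx_0_4_0 : loop (fun i => Nat.beq (E_0_4 i) i) 0 31671 = true := by decide +kernel

theorem cx_0_5_0 : loop (fun i => Nat.beq (E_0_5 i) i) 0 31671 = true := by decide +kernel

theorem cx_0_6_0 : loop (fun i => Nat.beq (E_0_6 i) i) 0 31671 = true := by decide +kernel

theorem cx_0_7_0 : loop (fun i => Nat.beq (E_0_7 i) i) 0 31671 = true := by decide +kernel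

theorem cx_0_8_0 : loop (fun i => Nat.beq (E_0_8 i) i) 0 31671 = true := by decide +kernel

theorem cx_0_9_0 : loop (fun i => Nat.beq (E_0_9 i) i) 0 31671 = true := by decide +kernel

theorem cx_1_2_0 : loop (fun i => Nat.beq (E_1_2 i) i) 0 31671 = true := by decide +kernel

theorem cx_1_3_0 : loop (fun i => Nat.beq (E_1_3 i) i) 0 31671 = true := by decide +kernel

theorem cx_1_4_0 : loop (fun i => Nat.beq (E_1_4 i) i) 0 31671 = true := by decide +kernel

theorem cx_1_5_0 : loop (fun i => Nat.beq (E_1_5 i) i) 0 31671 = true := by decide +kernel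

theorem cx_1_6_0 : loop (fun i => Nat.beq (E_1_6 i) i) 0 31671 = true := by decide +kernel

theorem cx_1_7_0 : loop (fun i => Nat.beq (E_1_7 i) i) 0 31671 = true := by decide +kernel

theorem cx_1_8_0 : loop (fun i => Nat.beq (E_1_8 i) i) 0 31671 = true := by decide +kernel

theorem cx_1_9_0 : loop (fun i => Nat.beq (E_1_9 i) i) 0 31671 = true := by decide +kernel

theorem cx_2_3_0 : loop (fun i => Nat.beq (E_2_3 i) i) 0 31671 = true := by decide +kernel

theorem cx_2_4_0 : loop (fun i => Nat.beq (E_2_4 i) i) 0 31671 = true := by decide +kernel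

theorem cx_2_5_0 : loop (fun i => Nat.beq (E_2_5 i) i) 0 31671 = true := by decide +kernel

theorem cx_2_6_0 : loop (fun i => Nat.beq (E_2_6 i) i) 0 31671 = true := by decide +kernel

theorem cx_2_7_0 : loop (fun i => Nat.beq (E_2_7 i) i) 0 31671 = true := by decide +kernel

theorem cx_2_8_0 : loop (fun i => Nat.beq (E_2_8 i) i) 0 31671 = true := by decide +kernel

end Cfsg.Agent.Lib.Helper19.Fi23a
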